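/-
Split extensions by an elementary abelian group that keep the prime graph.
-/
import Mathlib

set_option autoImplicit false

namespace CfsgLib.FpfExt

variable {G : Type*} [Group G]

/-- If `q` divides the order exactly once, elements of order `q` are powers of conjugates of one of them. -/
theorem exists_conj_pow [Finite G] {q : ℕ} [hq : Fact q.Prime] {g h : G} (hg : orderOf g = q)
    (hh : orderOf h = q) (hn : ¬ q ^ 2 ∣ Nat.card G) : ∃ (x : G) (n : ℕ), h = x * g ^ n * x⁻¹ := by
  have hdvd : q ∣ Nat.card G := hg ▸ orderOf_dvd_natCard g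
  have hfac : (Nat.card G).factorization q = 1 := by
    have h0 : Nat.card G ≠ 0 := Nat.card_pos.ne'
    have h1 : 1 ≤ (Nat.card G).factorization q :=
      (hq.out.pow_dvd_iff_le_factorization h0).1 (by rwa [pow_one])
    by_contra hne
    exact hn ((hq.out.pow_dvd_iff_le_factorization h0).2 (by omega))
  have hS : ∀ x : G, orderOf x = q → Nat.card (Subgroup.zpowers x) = q ^ (Nat.card G).factorization q := by
    intro x hx
    rw [hfac, pow_one, Nat.card_zpowers, hx]
  let P : Sylow q G := Sylow.ofCard _ (hS g hg)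
  let Q : Sylow q G := Sylow.ofCard _ (hS h hh)
  obtain ⟨x, hx⟩ := MulAction.exists_smul_eq G P Q
  have hmem : h ∈ (Q : Subgroup G) := by simp [Q]
  rw [← hx, Sylow.coe_subgroup_smul, Subgroup.mem_pointwise_smul_iff_inv_smul_mem] at hmem
  simp only [P, Sylow.coe_ofCard] at hmem
  rw [← (isOfFinOrder_of_finite g).mem_powers_iff_mem_zpowers] at hmem
  obtain ⟨n, hn'⟩ := (Submonoid.mem_powers_iff _ _).1 hmem
  refine ⟨x, n, ?_⟩
  rw [hn', MulAut.smul_def, MulAut.conj_inv_apply]
  simp only [mul_assoc, mul_inv_cancel_left, mul_inv_cancel, mul_one]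

variable {V : Type*} [CommGroup V] (φ : G →* MulAut V)

theorem prime_dvd_iff [Finite V] [Finite G] {p : ℕ} [Fact p.Prime] (hV : ∀ v : V, v ^ p = 1)
    (hpG : p ∣ Nat.card G) (r : ℕ) (hr : r.Prime) : r ∣ Nat.card G ↔ r ∣ Nat.card (V ⋊[φ] G) := by
  rw [SemidirectProduct.card]
  refine ⟨fun h => Dvd.dvd.mul_left h _, fun h => ?_⟩
  rcases hr.dvd_mul.1 h with h | h
  · haveI : Fact r.Prime := ⟨hr⟩
    obtain ⟨v, hv⟩ := exists_prime_orderOf_dvd_card' r h
    have : r ∣ p := hv ▸ orderOf_dvd_of_pow_eq_one (hV v)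
    rwa [(Nat.prime_dvd_prime_iff_eq hr Fact.out).1 this]
  · exact h

theorem edge_iff [Finite V] [Finite G] {p : ℕ} [hp : Fact p.Prime] (hV : ∀ v : V, v ^ p = 1)
    (hfix : ∀ (g : G) (q : ℕ), q.Prime → q ≠ p → orderOf g = q → ∀ v : V, v ≠ 1 → φ g v = v →
      ∃ x : G, orderOf x = p * q)
    {a b : ℕ} (ha : a.Prime) (hb : b.Prime) (hab : a ≠ b) :
    (∃ g : G, orderOf g = a * b) ↔ ∃ h : V ⋊[φ] G, orderOf h = a * b := by
  constructor
  · rintro ⟨g, hg⟩
    exact ⟨SemidirectProduct.inr g, by rw [orderOf_injective _ SemidirectProduct.inr_injective, hg]⟩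
  rintro ⟨h, hh⟩
  obtain ⟨g, hg⟩ : ∃ g, SemidirectProduct.rightHom h = g := ⟨_, rfl⟩
  have hdvd : orderOf g ∣ a * b := hh ▸ hg ▸ orderOf_map_dvd _ h
  have hker : SemidirectProduct.rightHom (h ^ orderOf g) = 1 := by
    rw [map_pow, hg, pow_orderOf_eq_one]
  obtain ⟨v, hv⟩ : h ^ orderOf g ∈ (SemidirectProduct.inl : V →* V ⋊[φ] G).range := by
    rw [SemidirectProduct.range_inl_eq_ker_rightHom]; exact hker
  have hmp : a * b ∣ orderOf g * p := by
    rw [← hh]
    refine orderOf_dvd_of_pow_eq_one ?_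
    rw [pow_mul, ← hv, ← map_pow, hV, map_one]
  by_cases heq : orderOf g = a * b
  · exact ⟨g, heq⟩
  -- the image then has order `a * b / p`
  have hp' : p ∣ a * b := by
    by_contra hnd
    have hco : Nat.Coprime (a * b) p := (hp.out.coprime_iff_not_dvd.2 hnd).symm
    exact heq (Nat.dvd_antisymm hdvd (hco.dvd_of_dvd_mul_right hmp))
  obtain ⟨q, hq, hqp, hab'⟩ : ∃ q : ℕ, q.Prime ∧ q ≠ p ∧ a * b = p * q := by
    rcases hp.out.dvd_mul.1 hp' with h | h
    · have := (Nat.prime_dvd_prime_iff_eq hp.out ha).1 h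
      subst this
      exact ⟨b, hb, fun e => hab e.symm, rfl⟩
    · have := (Nat.prime_dvd_prime_iff_eq hp.out hb).1 h
      subst this
      exact ⟨a, ha, hab, mul_comm _ _⟩
  rw [hab'] at hdvd hmp heq hh ⊢
  have hqg : q ∣ orderOf g := by
    rw [mul_comm (orderOf g) p] at hmp
    exact Nat.dvd_of_mul_dvd_mul_left hp.out.pos hmp
  have hgq : orderOf g = q := by
    obtain ⟨c, hc⟩ := hqg
    rw [hc, mul_comm p q] at hdvd
    rcases (Nat.dvd_prime hp.out).1 (Nat.dvd_of_mul_dvd_mul_left hq.pos hdvd) with rfl | rfl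
    · rw [hc, mul_one]
    · exact absurd (by rw [hc, mul_comm]) heq
  have hv1 : v ≠ 1 := by
    intro e
    rw [e, map_one, hgq] at hv
    have h1 : p * q ∣ q := hh ▸ orderOf_dvd_of_pow_eq_one hv.symm
    have h2 := Nat.le_of_dvd hq.pos h1
    nlinarith [hp.out.two_le, hq.pos]
  have hfx : φ g v = v := by
    have hcomm : h * SemidirectProduct.inl v = SemidirectProduct.inl v * h := by
      rw [hv]; exact (Commute.self_pow h _).eq
    have hl := congrArg SemidirectProduct.left hcomm
    have hr : h.right = g := hg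
    simp only [SemidirectProduct.mul_left, SemidirectProduct.left_inl, SemidirectProduct.right_inl,
      map_one, MulAut.one_apply, hr] at hl
    rw [mul_comm v] at hl
    exact mul_left_cancel hl
  exact hfix g q hq hqp hgq v hv1 hfx

end CfsgLib.FpfExt
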